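import Groth.Agent.Lib.NagataFP.Basic
import Groth.Agent.Lib.Serre.Regular
import Mathlib

/-!
# Projective dimension over algebras over valuation rings with regular fibre
-/

set_option autoImplicit false
set_option linter.style.haveILetI false
set_option maxHeartbeats 1000000

universe u

open TensorProduct GrothLib.Serre CategoryTheory

namespace GrothLib.NagataFP

/-- Flat finite modules over algebras essentially of finite type over valuation rings are finitely
presented. -/
theorem finitePresentation_essFiniteType {A B M : Type u} [CommRing A] [IsDomain A]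
    [ValuationRing A] [CommRing B] [Algebra A B] [Algebra.EssFiniteType A B]
    [AddCommGroup M] [Module B M] [Module A M] [IsScalarTower A B M]
    [Module.Finite B M] [Module.IsTorsionFree A M] : Module.FinitePresentation B M := by
  classical
  obtain ⟨S₀, T₀, hft, hloc⟩ := (Algebra.essFiniteType_iff_exists_subalgebra A B).1
    (inferInstance : Algebra.EssFiniteType A B)
  obtain ⟨n, f, hf⟩ := Algebra.FiniteType.iff_quotient_mvPolynomial''.1 hft
  let P := MvPolynomial (Fin n) A
  let φ : P →ₐ[A] B := S₀.val.comp f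
  letI : Algebra P B := φ.toRingHom.toAlgebra
  letI : Module P M := Module.compHom M φ.toRingHom
  haveI : IsScalarTower P B M := IsScalarTower.of_algebraMap_smul fun _ _ => rfl
  have hloc' : ∀ b : B, ∃ (a : P) (t : P), IsUnit (φ t) ∧ b * φ t = φ a := by
    intro b
    obtain ⟨⟨a, t⟩, h⟩ := IsLocalization.surj T₀ b
    obtain ⟨a', rfl⟩ := hf a
    obtain ⟨t', ht'⟩ := hf t.1
    refine ⟨a', t', ?_, ?_⟩
    · show IsUnit (S₀.val (f t'))
      rw [ht']
      exact IsLocalization.map_units B t
    · show b * S₀.val (f t') = S₀.val (f a')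
      rw [ht']
      exact h
  let T : Submonoid P := (IsUnit.submonoid B).comap φ.toRingHom
  obtain ⟨r, π, hπ⟩ := Module.Finite.exists_fin' B M
  let M₀ : Submodule P M := Submodule.span P (Set.range fun i => π (Pi.single i 1))
  haveI : Module.Finite P M₀ := Module.Finite.span_of_finite P (Set.finite_range _)
  haveI : Module.FinitePresentation P M₀ := by
    refine GrothLib.NagataFP.finitePresentation_of_torsionFree fun a m ha h => ?_
    refine Subtype.ext ?_
    have h' : φ (MvPolynomial.C a) • (m : M) = 0 := congrArg Subtype.val h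
    rw [← MvPolynomial.algebraMap_eq, φ.commutes, algebraMap_smul] at h'
    haveI : Module.IsTorsionFree A M := inferInstance
    exact (smul_eq_zero.1 h').resolve_left ha
  haveI : IsLocalizedModule T M₀.subtype :=
    { map_units := fun t => by
        obtain ⟨c, hc⟩ := (t.2 : IsUnit (φ t.1))
        rw [Module.End.isUnit_iff]
        refine Function.bijective_iff_has_inverse.2 ⟨fun m => (↑c⁻¹ : B) • m, fun m => ?_, fun m => ?_⟩
        · show (↑c⁻¹ : B) • (φ t.1 • m) = m
          rw [smul_smul, show φ t.1 = (c : B) from hc.symm, Units.inv_mul, one_smul]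
        · show φ t.1 • ((↑c⁻¹ : B) • m) = m
          rw [smul_smul, show φ t.1 = (c : B) from hc.symm, Units.mul_inv, one_smul]
      surj := fun m => by
        obtain ⟨v, rfl⟩ := hπ m
        choose a t htu hat using fun i => hloc' (v i)
        refine ⟨⟨⟨∑ i, ((∏ j ∈ Finset.univ.erase i, t j) * a i) • π (Pi.single i 1),
          Submodule.sum_mem _ fun i _ => Submodule.smul_mem _ _ (Submodule.subset_span ⟨i, rfl⟩)⟩,
          ⟨∏ i, t i, ?_⟩⟩, ?_⟩
        · show IsUnit (φ (∏ i, t i))
          rw [map_prod]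
          exact IsUnit.prod_iff.2 fun i _ => htu i
        · show φ (∏ i, t i) • π v = ∑ i, φ ((∏ j ∈ Finset.univ.erase i, t j) * a i) • π (Pi.single i 1)
          conv_lhs => rw [pi_eq_sum_univ' v, map_sum, Finset.smul_sum]
          refine Finset.sum_congr rfl fun i _ => ?_
          rw [map_smul, smul_smul]
          congr 1
          rw [← Finset.mul_prod_erase _ _ (Finset.mem_univ i), map_mul φ, map_mul φ, ← hat i]
          ring
      exists_of_eq := fun {x y} h => ⟨1, by rw [Subtype.ext h]⟩ }
  refine FinitePresentation.of_isBaseChange (A := B) M₀.subtype (IsBaseChange.of_lift_unique _ fun Q _ _ _ _ g => ?_)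
  have hQ : ∀ t : T, IsUnit (algebraMap P (Module.End P Q) t) := fun t => by
    obtain ⟨c, hc⟩ := (t.2 : IsUnit (φ t.1))
    rw [Module.End.isUnit_iff]
    have he : ∀ q : Q, (t.1 : P) • q = φ t.1 • q := fun q => (algebraMap_smul B t.1 q).symm
    refine Function.bijective_iff_has_inverse.2 ⟨fun m => (↑c⁻¹ : B) • m, fun m => ?_, fun m => ?_⟩
    · show (↑c⁻¹ : B) • ((t.1 : P) • m) = m
      rw [he, smul_smul, show φ t.1 = (c : B) from hc.symm, Units.inv_mul, one_smul]
    · show (t.1 : P) • ((↑c⁻¹ : B) • m) = m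
      rw [he, smul_smul, show φ t.1 = (c : B) from hc.symm, Units.mul_inv, one_smul]
  let g' := IsLocalizedModule.lift T M₀.subtype g hQ
  refine ⟨{ g' with map_smul' := fun b x => ?_ }, LinearMap.ext fun x => IsLocalizedModule.lift_apply T M₀.subtype g hQ x,
    fun h hh => LinearMap.restrictScalars_injective P ?_⟩
  · obtain ⟨a, t, htu, hat⟩ := hloc' b
    obtain ⟨c, hc⟩ := htu
    have hb : b = φ a * (↑c⁻¹ : B) := by rw [← hat, ← hc, mul_assoc, Units.mul_inv, mul_one]
    have hg : ∀ (p : P) (y : M), g' (φ p • y) = φ p • g' y := fun p y => by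
      have := g'.map_smul p y
      rw [← algebraMap_smul B p (g' y)] at this
      exact this
    have hinv : ∀ y : M, g' ((↑c⁻¹ : B) • y) = (↑c⁻¹ : B) • g' y := fun y => by
      have h1 := hg t ((↑c⁻¹ : B) • y)
      rw [← hc, smul_smul, Units.mul_inv, one_smul] at h1
      rw [h1, smul_smul, Units.inv_mul, one_smul]
    show g' (b • x) = b • g' x
    rw [hb, mul_smul, hg, hinv, ← mul_smul]
  · exact (IsLocalizedModule.lift_unique T M₀.subtype g hQ (h.restrictScalars P) hh).symm

section Pd

variable {V A : Type u} [CommRing V] [IsDomain V] [ValuationRing V] [CommRing A] [IsLocalRing A]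
  [Algebra V A] (P : Ideal V)

/-- Torsion freeness over the base. -/
def TF (V : Type u) (A : Type u) [CommRing V] [CommRing A] [Algebra V A] (M : Type u) [AddCommGroup M]
    [Module A M] : Prop :=
  ∀ (a : V) (m : M), a ≠ 0 → algebraMap V A a • m = 0 → m = 0

theorem TF.submodule {M : Type u} [AddCommGroup M] [Module A M] (h : TF V A M) (N : Submodule A M) :
    TF V A N := fun a m ha hm => Subtype.ext (h a m ha (congrArg Subtype.val hm))

theorem TF.pi (h : TF V A A) (k : ℕ) : TF V A (Fin k → A) := fun a m ha hm =>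
  funext fun i => h a (m i) ha (congrFun hm i)

theorem exists_smul_eq_of_mem_map {M : Type u} [AddCommGroup M] [Module A M] {m : M}
    (hm : m ∈ P.map (algebraMap V A) • (⊤ : Submodule A M)) :
    ∃ a ∈ P, ∃ m' : M, m = algebraMap V A a • m' := by
  classical
  refine Submodule.smul_induction_on hm (fun r hr x _ => ?_) (fun y z hy hz => ?_)
  ·
    obtain ⟨a, ha, c, rfl⟩ : ∃ a ∈ P, ∃ c, r = algebraMap V A a * c := by
      induction hr using Submodule.span_induction with
      | mem y hy => obtain ⟨a, ha, rfl⟩ := hy; exact ⟨a, ha, 1, (mul_one _).symm⟩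
      | zero => exact ⟨0, P.zero_mem, 0, by simp⟩
      | add y z _ _ hy hz =>
        obtain ⟨a, ha, c, rfl⟩ := hy
        obtain ⟨b, hb, d, rfl⟩ := hz
        rcases ValuationRing.dvd_total a b with ⟨e, rfl⟩ | ⟨e, rfl⟩
        · exact ⟨a, ha, c + algebraMap V A e * d, by rw [map_mul]; ring⟩
        · exact ⟨b, hb, algebraMap V A e * c + d, by rw [map_mul]; ring⟩
      | smul r y _ hy =>
        obtain ⟨a, ha, c, rfl⟩ := hy
        exact ⟨a, ha, r * c, by rw [smul_eq_mul]; ring⟩
    exact ⟨a, ha, c • x, mul_smul _ _ _⟩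
  · obtain ⟨a, ha, c, rfl⟩ := hy
    obtain ⟨b, hb, d, rfl⟩ := hz
    rcases ValuationRing.dvd_total a b with ⟨e, rfl⟩ | ⟨e, rfl⟩
    · exact ⟨a, ha, c + algebraMap V A e • d, by rw [map_mul, smul_add, mul_smul]⟩
    · exact ⟨b, hb, algebraMap V A e • c + d, by rw [map_mul, smul_add, mul_smul]⟩

/-- Kernels of maps onto torsion free modules survive restriction to the fibre. -/
theorem injective_lTensor_fibre {F M : Type u} [AddCommGroup F] [Module A F] [AddCommGroup M] [Module A M]
    (hM : TF V A M) (π : F →ₗ[A] M) :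
    Function.Injective ((LinearMap.ker π).subtype.lTensor (A ⧸ P.map (algebraMap V A))) := by
  refine (injective_iff_map_eq_zero _).mpr fun z hz => ?_
  obtain ⟨k, rfl⟩ := TensorProduct.mk_surjective A (LinearMap.ker π) (A ⧸ P.map (algebraMap V A))
    Ideal.Quotient.mk_surjective z
  rw [TensorProduct.mk_apply, LinearMap.lTensor_tmul] at hz
  have h1 := congrArg (TensorProduct.quotTensorEquivQuotSMul F (P.map (algebraMap V A))) (show
    (Ideal.Quotient.mk (P.map (algebraMap V A)) 1) ⊗ₜ[A] (k : F) = 0 from hz)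
  rw [map_zero, TensorProduct.quotTensorEquivQuotSMul_mk_tmul, one_smul,
    Submodule.Quotient.mk_eq_zero] at h1
  obtain ⟨a, ha, f, hf⟩ := exists_smul_eq_of_mem_map P h1
  by_cases ha0 : a = 0
  · have : k = 0 := Subtype.ext (by rw [hf, ha0, map_zero, zero_smul]; rfl)
    simp [this]
  · have hf0 : π f = 0 := hM a _ ha0 (by rw [← map_smul, ← hf]; exact k.2)
    have hk : k = algebraMap V A a • (⟨f, hf0⟩ : LinearMap.ker π) := Subtype.ext hf
    show (1 : A ⧸ P.map (algebraMap V A)) ⊗ₜ[A] k = 0
    rw [hk, TensorProduct.tmul_smul, TensorProduct.smul_tmul', Algebra.smul_def,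
      Ideal.Quotient.algebraMap_eq, Ideal.Quotient.eq_zero_iff_mem.2 (Ideal.mem_map_of_mem _ ha),
      zero_mul, TensorProduct.zero_tmul]

variable (hP : P.map (algebraMap V A) ≤ IsLocalRing.maximalIdeal A)
  (hcoh : ∀ (N : Type u) [AddCommGroup N] [Module A N] [Module.Finite A N], TF V A N →
    Module.FinitePresentation A N)

include hP in
theorem free_of_fibre_free {M : Type u} [AddCommGroup M] [Module A M] [Module.FinitePresentation A M]
    (hM : TF V A M)
    [Module.Free (A ⧸ P.map (algebraMap V A)) ((A ⧸ P.map (algebraMap V A)) ⊗[A] M)] :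
    Module.Free A M := by
  classical
  let J := P.map (algebraMap V A)
  haveI : Nontrivial (A ⧸ J) := Ideal.Quotient.nontrivial_iff.2 fun h =>
    (IsLocalRing.maximalIdeal.isMaximal A).ne_top (top_le_iff.1 (h.ge.trans hP))
  let b := Module.Free.chooseBasis (A ⧸ J) ((A ⧸ J) ⊗[A] M)
  choose v hv using fun i => TensorProduct.mk_surjective A M (A ⧸ J) Ideal.Quotient.mk_surjective (b i)
  let π : (Module.Free.ChooseBasisIndex (A ⧸ J) ((A ⧸ J) ⊗[A] M) → A) →ₗ[A] M :=
    Fintype.linearCombination A v
  have hbc : ∀ c, TensorProduct.mk A (A ⧸ J) M 1 (π c) = ∑ i, Ideal.Quotient.mk J (c i) • b i := fun c => by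
    rw [Fintype.linearCombination_apply, map_sum]
    refine Finset.sum_congr rfl fun i _ => ?_
    rw [map_smul, hv]
    exact (algebraMap_smul (A ⧸ J) (c i) (b i)).symm
  have hmem : ∀ m : M, TensorProduct.mk A (A ⧸ J) M 1 m = 0 → m ∈ J • (⊤ : Submodule A M) := fun m hm => by
    have h1 := congrArg (TensorProduct.quotTensorEquivQuotSMul M J) (show
      (Ideal.Quotient.mk J 1) ⊗ₜ[A] m = 0 from hm)
    rwa [map_zero, TensorProduct.quotTensorEquivQuotSMul_mk_tmul, one_smul, Submodule.Quotient.mk_eq_zero] at h1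
  have hsurj : Function.Surjective π := by
    rw [← LinearMap.range_eq_top]
    refine top_le_iff.1 (Submodule.le_of_le_smul_of_le_jacobson_bot (Module.Finite.fg_top)
      (IsLocalRing.maximalIdeal_le_jacobson _) fun m _ => ?_)
    choose c hc using fun i => Ideal.Quotient.mk_surjective (b.repr (TensorProduct.mk A (A ⧸ J) M 1 m) i)
    refine Submodule.mem_sup.2 ⟨π c, ⟨c, rfl⟩, m - π c, Submodule.smul_mono_left hP (hmem _ ?_), add_sub_cancel _ _⟩
    rw [map_sub, hbc, sub_eq_zero]
    simp only [hc]
    exact (b.sum_repr _).symm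
  have hker : LinearMap.ker π ≤ IsLocalRing.maximalIdeal A • LinearMap.ker π := fun c hc => by
    have h0 : ∀ i, c i ∈ J := fun i => by
      have h := hbc c
      rw [LinearMap.mem_ker.1 hc, map_zero] at h
      exact Ideal.Quotient.eq_zero_iff_mem.1 (Fintype.linearIndependent_iff.1 b.linearIndependent _ h.symm i)
    have h1 : c ∈ J • (⊤ : Submodule A (Module.Free.ChooseBasisIndex (A ⧸ J) ((A ⧸ J) ⊗[A] M) → A)) := by
      rw [pi_eq_sum_univ' c]
      exact Submodule.sum_mem _ fun i _ => Submodule.smul_mem_smul (h0 i) trivial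
    obtain ⟨a, ha, f, hf⟩ := exists_smul_eq_of_mem_map P h1
    by_cases ha0 : a = 0
    · rw [hf, ha0, map_zero, zero_smul]
      exact Submodule.zero_mem _
    · rw [hf]
      exact Submodule.smul_mem_smul (hP (Ideal.mem_map_of_mem _ ha))
        (hM a _ ha0 (by rw [← map_smul, ← hf]; exact hc))
  have hk0 := Submodule.eq_bot_of_le_smul_of_le_jacobson_bot _ _ (Module.FinitePresentation.fg_ker π hsurj)
    hker (IsLocalRing.maximalIdeal_le_jacobson _)
  exact Module.Free.of_equiv (LinearEquiv.ofBijective π ⟨LinearMap.ker_eq_bot.1 hk0, hsurj⟩)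

variable [IsLocalRing (A ⧸ P.map (algebraMap V A))]
variable (hA : TF V A A)

include hP hcoh hA in
theorem pdLE_of_fibre : ∀ (j : ℕ) (M : Type u) [AddCommGroup M] [Module A M] [Module.Finite A M],
    TF V A M → PdLE (A ⧸ P.map (algebraMap V A)) ((A ⧸ P.map (algebraMap V A)) ⊗[A] M) j → PdLE A M j := by
  intro j
  induction j with
  | zero =>
    intro M _ _ _ hM h
    haveI := hcoh M hM
    rw [pdLE_zero_iff] at h ⊢
    haveI : Module.Free (A ⧸ P.map (algebraMap V A)) ((A ⧸ P.map (algebraMap V A)) ⊗[A] M) :=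
      Module.free_of_flat_of_isLocalRing
    haveI := free_of_fibre_free P hP hM
    infer_instance
  | succ j ih =>
    intro M _ _ _ hM h
    haveI := hcoh M hM
    obtain ⟨k, π, hπ⟩ := Module.Finite.exists_fin' A M
    haveI : Module.Finite A (LinearMap.ker π) := Module.Finite.iff_fg.2 (Module.FinitePresentation.fg_ker π hπ)
    rw [pdLE_succ_iff π hπ j]
    exact ih _ ((hA.pi k).submodule _)
      ((pdLE_baseChange_succ_iff _ π hπ (injective_lTensor_fibre P hM π) j).1 h)

end Pd

section Main

variable {V A : Type u} [CommRing V] [IsDomain V] [ValuationRing V] [CommRing A] [IsLocalRing A]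
  [Algebra V A] [Algebra.EssFiniteType V A] (P : Ideal V) (hP : P.map (algebraMap V A) ≤ IsLocalRing.maximalIdeal A)
  [IsRegularLocalRing (A ⧸ P.map (algebraMap V A))] {n : ℕ}
  (hn : ringKrullDim (A ⧸ P.map (algebraMap V A)) = n) (hA : TF V A A)

theorem finitePresentation_of_tf (N : Type u) [AddCommGroup N] [Module A N] [Module.Finite A N]
    (hN : TF V A N) : Module.FinitePresentation A N := by
  letI : Module V N := Module.compHom N (algebraMap V A)
  haveI : IsScalarTower V A N := IsScalarTower.of_algebraMap_smul fun _ _ => rfl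
  haveI : Module.IsTorsionFree V N := Module.IsTorsionFree.of_smul_eq_zero fun a m h => by
    by_cases ha : a = 0
    · exact Or.inl ha
    · exact Or.inr (hN a m ha h)
  exact finitePresentation_essFiniteType (A := V) (B := A) (M := N)

include hP hn hA in
theorem pdLE_of_tf (M : Type u) [AddCommGroup M] [Module A M] [Module.Finite A M] (hM : TF V A M) :
    PdLE A M n :=
  pdLE_of_fibre P hP finitePresentation_of_tf hA n M hM (pdLE_of_isRegularLocalRing _ n hn _)

include hA in
theorem fg_ker {k l : ℕ} (φ : (Fin k → A) →ₗ[A] (Fin l → A)) : (LinearMap.ker φ).FG := by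
  haveI := finitePresentation_of_tf (LinearMap.range φ) ((hA.pi l).submodule _)
  have h := Module.FinitePresentation.fg_ker φ.rangeRestrict φ.surjective_rangeRestrict
  rwa [LinearMap.ker_rangeRestrict] at h

include hP hn hA in
theorem pdLE_succ (M : Type u) [AddCommGroup M] [Module A M] [Module.FinitePresentation A M] :
    PdLE A M (n + 1) := by
  obtain ⟨k, π, hπ⟩ := Module.Finite.exists_fin' A M
  haveI : Module.Finite A (LinearMap.ker π) := Module.Finite.iff_fg.2 (Module.FinitePresentation.fg_ker π hπ)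
  rw [pdLE_succ_iff π hπ n]
  exact pdLE_of_tf P hP hn hA _ ((hA.pi k).submodule _)

omit [IsLocalRing A] in
/-- The dual of a finitely presented module is the kernel of a map of finite free modules. -/
theorem exists_dual_equiv_ker {A : Type u} [CommRing A] (M : Type u) [AddCommGroup M] [Module A M]
    [Module.FinitePresentation A M] :
    ∃ (k l : ℕ) (φ : (Fin k → A) →ₗ[A] (Fin l → A)), Nonempty (Module.Dual A M ≃ₗ[A] LinearMap.ker φ) := by
  classical
  obtain ⟨k, π, hπ⟩ := Module.Finite.exists_fin' A M
  haveI : Module.Finite A (LinearMap.ker π) := Module.Finite.iff_fg.2 (Module.FinitePresentation.fg_ker π hπ)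
  obtain ⟨l, ρ, hρ⟩ := Module.Finite.exists_fin' A (LinearMap.ker π)
  let e : ∀ m : ℕ, Module.Dual A (Fin m → A) ≃ₗ[A] (Fin m → A) := fun m => (Pi.basisFun A (Fin m)).toDualEquiv.symm
  let ψ : Module.Dual A (Fin k → A) →ₗ[A] Module.Dual A (Fin l → A) := ((LinearMap.ker π).subtype.comp ρ).dualMap
  let φ : (Fin k → A) →ₗ[A] (Fin l → A) := (e l).toLinearMap.comp (ψ.comp (e k).symm.toLinearMap)
  let θ : Module.Dual A M →ₗ[A] (Fin k → A) := (e k).toLinearMap.comp π.dualMap
  have hθ : Function.Injective θ := (e k).injective.comp (LinearMap.dualMap_injective_of_surjective hπ)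
  have hr : LinearMap.range θ = LinearMap.ker φ := by
    apply le_antisymm
    · rintro _ ⟨g, rfl⟩
      show e l (ψ ((e k).symm (e k (π.dualMap g)))) = 0
      rw [LinearEquiv.symm_apply_apply, LinearEquiv.map_eq_zero_iff]
      exact LinearMap.ext fun c => by
        show g (π (ρ c : Fin k → A)) = 0
        rw [LinearMap.mem_ker.1 (ρ c).2, map_zero]
    · intro x hx
      let h := (e k).symm x
      have hh : ψ h = 0 := (e l).map_eq_zero_iff.1 hx
      have hker : LinearMap.ker π ≤ LinearMap.ker h := fun c hc => by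
        obtain ⟨d, hd⟩ := hρ ⟨c, hc⟩
        have := LinearMap.congr_fun hh d
        rw [LinearMap.mem_ker]
        simpa [ψ, hd] using this
      let g : Module.Dual A M := (LinearMap.ker π).liftQ h hker ∘ₗ
        (LinearMap.quotKerEquivOfSurjective π hπ).symm.toLinearMap
      refine ⟨g, ?_⟩
      show e k (π.dualMap g) = x
      have hg : π.dualMap g = h := LinearMap.ext fun c => by
        show (LinearMap.ker π).liftQ h hker ((LinearMap.quotKerEquivOfSurjective π hπ).symm (π c)) = h c
        rw [show (LinearMap.quotKerEquivOfSurjective π hπ).symm (π c) = Submodule.Quotient.mk c from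
          (LinearEquiv.symm_apply_eq _).2 rfl]
        rfl
      rw [hg]
      exact (e k).apply_symm_apply x
  exact ⟨k, l, φ, ⟨(LinearEquiv.ofInjective θ hθ).trans (LinearEquiv.ofEq _ _ hr)⟩⟩

include hP hn hA in
theorem pdLE_of_reflexive (M : Type u) [AddCommGroup M] [Module A M] [Module.FinitePresentation A M]
    [Module.IsReflexive A M] : PdLE A M (n - 1) := by
  obtain ⟨k₀, l₀, φ₀, ⟨e₀⟩⟩ := exists_dual_equiv_ker (A := A) M
  haveI : Module.Finite A (LinearMap.ker φ₀) := Module.Finite.iff_fg.2 (fg_ker hA φ₀)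
  haveI : Module.FinitePresentation A (LinearMap.ker φ₀) :=
    finitePresentation_of_tf _ ((hA.pi k₀).submodule _)
  haveI : Module.FinitePresentation A (Module.Dual A M) := Module.FinitePresentation.of_equiv e₀.symm
  obtain ⟨k, l, φ, ⟨e⟩⟩ := exists_dual_equiv_ker (A := A) (Module.Dual A M)
  rw [pdLE_congr ((Module.evalEquiv A M).trans e) (n - 1)]
  haveI : Module.Finite A (LinearMap.ker φ) := Module.Finite.iff_fg.2 (fg_ker hA φ)
  rcases Nat.eq_zero_or_pos n with h0 | hpos
  · subst h0
    exact pdLE_of_tf P hP hn hA _ ((hA.pi k).submodule _)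
  · obtain ⟨m, rfl⟩ := Nat.exists_eq_succ_of_ne_zero hpos.ne'
    haveI : Module.FinitePresentation A ((Fin l → A) ⧸ LinearMap.range φ) :=
      Module.finitePresentation_of_surjective (LinearMap.range φ).mkQ (Submodule.mkQ_surjective _)
        (by rw [Submodule.ker_mkQ]; exact Module.Finite.iff_fg.1 inferInstance)
    have hC := pdLE_succ P hP hn hA ((Fin l → A) ⧸ LinearMap.range φ)
    rw [pdLE_succ_iff (LinearMap.range φ).mkQ (Submodule.mkQ_surjective _)] at hC
    have hN : PdLE A (LinearMap.range φ) (m + 1) :=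
      (pdLE_congr (LinearEquiv.ofEq _ _ (Submodule.ker_mkQ _)) _).1 hC
    rw [pdLE_succ_iff φ.rangeRestrict φ.surjective_rangeRestrict] at hN
    exact (pdLE_congr (LinearEquiv.ofEq _ _ (LinearMap.ker_rangeRestrict φ)) _).1 hN

end Main

end GrothLib.NagataFP
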