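import Groth.Agent.S0387
import Mathlib.RingTheory.Flat.EquationalCriterion
import Mathlib.LinearAlgebra.TensorProduct.Pi
import Mathlib.RingTheory.Localization.AtPrime.Basic
import Mathlib.RingTheory.Spectrum.Prime.Topology

/-!
# Finite presentation of flat finite modules from finite presentation at every prime of the base
-/

set_option autoImplicit false
set_option linter.style.haveILetI false
set_option maxHeartbeats 800000

universe u

open scoped TensorProduct

namespace GrothLib.NagataFP

variable {R S : Type u} [CommRing R] [CommRing S] [Algebra R S]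

/-- Localisations of flat modules are flat over the base. -/
theorem flat_localized {M : Type u} [AddCommGroup M] [Module S M] [Module R M] [IsScalarTower R S M]
    [Module.Flat R M] (T : Submonoid S) : Module.Flat R (LocalizedModule T M) := by
  classical
  refine Module.Flat.of_forall_isTrivialRelation fun {l f x} h => ?_
  obtain ⟨t, ht⟩ := IsLocalizedModule.exist_integer_multiples_of_finite T
    (LocalizedModule.mkLinearMap T M) x
  choose m hm using ht
  have h1 : LocalizedModule.mkLinearMap T M (∑ i, f i • m i) = LocalizedModule.mkLinearMap T M 0 := by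
    rw [map_zero, map_sum]
    calc ∑ i, LocalizedModule.mkLinearMap T M (f i • m i)
        = ∑ i, f i • ((t : S) • x i) := Finset.sum_congr rfl fun i _ => by
          rw [← IsScalarTower.algebraMap_smul S (f i) (m i), map_smul, hm i,
            IsScalarTower.algebraMap_smul]
      _ = (t : S) • ∑ i, f i • x i := by
          rw [Finset.smul_sum]
          exact Finset.sum_congr rfl fun i _ => smul_comm _ _ _
      _ = 0 := by rw [h, smul_zero]
  obtain ⟨t', ht'⟩ := IsLocalizedModule.exists_of_eq (S := T) h1
  rw [smul_zero, Finset.smul_sum] at ht'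
  have h2 : ∑ i, f i • ((t' : S) • m i) = 0 := by
    rw [← ht']
    exact Finset.sum_congr rfl fun i _ => smul_comm (f i) (t' : S) (m i)
  obtain ⟨k, a, y, hy, ha⟩ := Module.Flat.isTrivialRelation_of_sum_smul_eq_zero h2
  refine ⟨k, a, fun j => IsLocalizedModule.mk' (LocalizedModule.mkLinearMap T M) (y j) (t * t'),
    fun i => ?_, ha⟩
  refine ((Module.End.isUnit_iff _).1 (IsLocalizedModule.map_units
    (LocalizedModule.mkLinearMap T M) (t * t'))).1 ?_
  simp only [Module.algebraMap_end_apply]
  rw [Finset.smul_sum]
  calc ((t * t' : T) : S) • x i = (t' : S) • ((t : S) • x i) := by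
        rw [Submonoid.coe_mul, mul_comm, mul_smul]
    _ = LocalizedModule.mkLinearMap T M ((t' : S) • m i) := by
        rw [map_smul, hm i]
    _ = LocalizedModule.mkLinearMap T M (∑ j, a i j • y j) := congrArg _ (hy i)
    _ = _ := by
        rw [map_sum]
        refine Finset.sum_congr rfl fun j _ => ?_
        rw [smul_comm, ← Submonoid.smul_def, IsLocalizedModule.mk'_cancel', LinearMap.map_smul_of_tower]

/-- An element of a flat module killed near finitely many primes with dense localizations is zero. -/
theorem eq_zero_of_flat {N : Type u} [AddCommGroup N] [Module R N] [Module.Flat R N]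
    (s : Finset (PrimeSpectrum R))
    (hs : Function.Injective fun r : R => fun p : s => algebraMap R (Localization.AtPrime p.1.asIdeal) r)
    (x : N) (hx : ∀ p ∈ s, ∃ u ∉ (p : PrimeSpectrum R).asIdeal, u • x = 0) : x = 0 := by
  classical
  let L : R →ₗ[R] (∀ p : s, Localization.AtPrime p.1.asIdeal) :=
    LinearMap.pi fun p => Algebra.linearMap R _
  have hinj : Function.Injective (L.lTensor N) :=
    Module.Flat.lTensor_preserves_injective_linearMap L hs
  let e := TensorProduct.piRight R R N (fun p : s => Localization.AtPrime p.1.asIdeal)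
  have h0 : L.lTensor N (x ⊗ₜ[R] 1) = L.lTensor N ((0 : N) ⊗ₜ[R] 1) := by
    refine e.injective (funext fun p => ?_)
    rw [TensorProduct.zero_tmul, map_zero, map_zero, Pi.zero_apply, LinearMap.lTensor_tmul,
      TensorProduct.piRight_apply, TensorProduct.piRightHom_tmul]
    show x ⊗ₜ[R] (algebraMap R (Localization.AtPrime p.1.asIdeal) 1) = 0
    obtain ⟨u, hu, hux⟩ := hx p.1 p.2
    obtain ⟨v, hv⟩ := IsLocalization.map_units (Localization.AtPrime p.1.asIdeal)
      (⟨u, hu⟩ : p.1.asIdeal.primeCompl)
    have h1 : algebraMap R (Localization.AtPrime p.1.asIdeal) 1 =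
        u • (↑v⁻¹ : Localization.AtPrime p.1.asIdeal) := by
      rw [Algebra.smul_def, map_one, show algebraMap R (Localization.AtPrime p.1.asIdeal) u = ↑v from hv.symm,
        Units.mul_inv]
    rw [h1, TensorProduct.tmul_smul, TensorProduct.smul_tmul', hux, TensorProduct.zero_tmul]
  have h := congrArg (TensorProduct.rid R N) (hinj h0)
  simpa using h

/-- A flat finite quotient of a finitely presented module is finitely presented if this holds at
every prime of the base, and finitely many primes detect all elements of the base. -/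
theorem fg_ker_of_local [Algebra.FinitePresentation R S] {F M : Type u}
    [AddCommGroup F] [Module S F] [Module R F] [IsScalarTower R S F] [Module.FinitePresentation S F]
    [AddCommGroup M] [Module S M] [Module R M] [IsScalarTower R S M] [Module.Flat R M]
    (π : F →ₗ[S] M) (hπ : Function.Surjective π) (s : Finset (PrimeSpectrum R))
    (hs : Function.Injective fun r : R => fun p : s => algebraMap R (Localization.AtPrime p.1.asIdeal) r)
    (hloc : ∀ (p : Ideal R) [p.IsPrime], ∃ K' : Submodule S F, K'.FG ∧ K' ≤ LinearMap.ker π ∧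
      ∀ k ∈ LinearMap.ker π, ∃ u ∉ p, algebraMap R S u • k ∈ K') :
    (LinearMap.ker π).FG := by
  classical
  choose K hKfg hKle hK using fun p : PrimeSpectrum R => hloc p.asIdeal
  let K0 : Submodule S F := s.sup K
  have hK0 : K0.FG := Submodule.fg_finset_sup s K fun p _ => hKfg p
  let N : PrimeSpectrum S → Submodule S F := fun q => K ⟨q.asIdeal.under R, inferInstance⟩ ⊔ K0
  have hNfg : ∀ q, (N q).FG := fun q => (hKfg _).sup hK0
  have hNle : ∀ q, N q ≤ LinearMap.ker π := fun q =>
    sup_le (hKle _) (Finset.sup_le fun p _ => hKle p)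
  let U : PrimeSpectrum S → Set (PrimeSpectrum S) := fun q =>
    {q' | Module.Flat R (LocalizedModule q'.asIdeal.primeCompl (F ⧸ N q))}
  haveI : ∀ q, Module.FinitePresentation S (F ⧸ N q) := fun q =>
    Module.finitePresentation_of_surjective (N q).mkQ (Submodule.mkQ_surjective _)
      (by rw [Submodule.ker_mkQ]; exact hNfg q)
  have hUopen : ∀ q, IsOpen (U q) := fun q => Groth.Agent.S0387.result
  -- flatness forces equality
  have hkill : ∀ q q', q' ∈ U q → ∀ k ∈ LinearMap.ker π, ∃ t ∉ q'.asIdeal, t • k ∈ N q := by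
    intro q q' hq' k hk
    haveI : Module.Flat R (LocalizedModule q'.asIdeal.primeCompl (F ⧸ N q)) := hq'
    let g := LocalizedModule.mkLinearMap q'.asIdeal.primeCompl (F ⧸ N q)
    have h0 : g (Submodule.Quotient.mk k) = 0 := by
      refine eq_zero_of_flat s hs _ fun p hp => ?_
      obtain ⟨u, hu, huk⟩ := hK p k hk
      refine ⟨u, hu, ?_⟩
      rw [← IsScalarTower.algebraMap_smul S u (g _), ← map_smul, ← Submodule.Quotient.mk_smul,
        (Submodule.Quotient.mk_eq_zero _).2 (Submodule.mem_sup_right (Finset.le_sup (f := K) hp huk)),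
        map_zero]
    obtain ⟨t, ht⟩ := IsLocalizedModule.exists_of_eq (S := q'.asIdeal.primeCompl)
      (h0.trans (map_zero g).symm)
    rw [smul_zero] at ht
    exact ⟨t, t.2, (Submodule.Quotient.mk_eq_zero _).1 ((Submodule.Quotient.mk_smul _ _ _).trans ht)⟩
  -- the cover
  have hcov : ∀ q, q ∈ U q := by
    intro q
    show Module.Flat R (LocalizedModule q.asIdeal.primeCompl (F ⧸ N q))
    let T := q.asIdeal.primeCompl
    let φ : (F ⧸ N q) →ₗ[S] M := (N q).liftQ π (hNle q)
    let Φ := IsLocalizedModule.map T (LocalizedModule.mkLinearMap T (F ⧸ N q))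
      (LocalizedModule.mkLinearMap T M) φ
    have hsurj : Function.Surjective Φ := IsLocalizedModule.map_surjective T _ _ φ fun m => by
      obtain ⟨z, rfl⟩ := hπ m
      exact ⟨Submodule.Quotient.mk z, rfl⟩
    have hinj : Function.Injective Φ := by
      rw [← LinearMap.ker_eq_bot]
      refine (Submodule.eq_bot_iff _).2 fun z hz => ?_
      obtain ⟨⟨a, t⟩, rfl⟩ := IsLocalizedModule.mk'_surjective T (LocalizedModule.mkLinearMap T (F ⧸ N q)) z
      simp only [Function.uncurry_apply_pair] at hz ⊢
      rw [LinearMap.mem_ker, IsLocalizedModule.map_mk', IsLocalizedModule.mk'_eq_zero'] at hz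
      obtain ⟨t', ht'⟩ := hz
      obtain ⟨w, rfl⟩ := Submodule.Quotient.mk_surjective _ a
      have hwk : (t' : S) • w ∈ LinearMap.ker π := by
        rw [LinearMap.mem_ker, map_smul]
        exact ht'
      obtain ⟨v, hv, hvk⟩ := hK ⟨q.asIdeal.under R, inferInstance⟩ _ hwk
      rw [IsLocalizedModule.mk'_eq_zero']
      refine ⟨⟨algebraMap R S v * t', T.mul_mem hv t'.2⟩, ?_⟩
      show (algebraMap R S v * (t' : S)) • (Submodule.Quotient.mk (p := N q) w : F ⧸ N q) = 0
      rw [← Submodule.Quotient.mk_smul, Submodule.Quotient.mk_eq_zero, mul_smul]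
      exact Submodule.mem_sup_left hvk
    haveI := flat_localized (R := R) (M := M) T
    exact Module.Flat.of_linearEquiv ((LinearEquiv.ofBijective Φ ⟨hinj, hsurj⟩).restrictScalars R)
  obtain ⟨Q, hQ⟩ := (isCompact_univ (X := PrimeSpectrum S)).elim_finite_subcover U hUopen
    fun q _ => Set.mem_iUnion.2 ⟨q, hcov q⟩
  let N' : Submodule S F := Q.sup N
  refine (le_antisymm (Finset.sup_le fun q _ => hNle q) fun k hk => ?_) ▸
    Submodule.fg_finset_sup Q N fun q _ => hNfg q
  let J : Ideal S := N'.colon ({k} : Set F)
  suffices hJ : J = ⊤ by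
    have h1 : (1 : S) ∈ J := by rw [hJ]; trivial
    have h2 := Submodule.mem_colon_singleton.1 h1
    rwa [one_smul] at h2
  by_contra hJ
  obtain ⟨m, hm, hJm⟩ := Ideal.exists_le_maximal J hJ
  obtain ⟨q, hqQ, hmq⟩ := Set.mem_iUnion₂.1 (hQ (Set.mem_univ (⟨m, hm.isPrime⟩ : PrimeSpectrum S)))
  obtain ⟨t, ht, htk⟩ := hkill q ⟨m, hm.isPrime⟩ hmq k hk
  exact ht (hJm (Submodule.mem_colon_singleton.2 (Finset.le_sup (f := N) hqQ htk)))

end GrothLib.NagataFP
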