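import Mathlib.RingTheory.Flat.TorsionFree
import Mathlib.RingTheory.LocalRing.Module
import Mathlib.RingTheory.Valuation.ValuationRing
import Mathlib.RingTheory.Nakayama
import Mathlib.RingTheory.MvPolynomial.Homogeneous
import Mathlib.RingTheory.Polynomial.Basic
import Mathlib.Algebra.Module.FinitePresentation

/-!
# Torsion-free finite modules over polynomial rings over valuation rings (Nagata)
-/

set_option autoImplicit false
set_option linter.style.haveILetI false
set_option maxHeartbeats 800000

universe u v

open MvPolynomial

namespace GrothLib.NagataFP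

variable {A : Type u} [CommRing A] [IsDomain A] [ValuationRing A]

/-- Among finitely many elements one divides all of them. -/
theorem exists_dvd_all {κ : Type v} (s : Finset κ) (hs : s.Nonempty) (c : κ → A) :
    ∃ k ∈ s, ∀ k' ∈ s, c k ∣ c k' := by
  induction hs using Finset.Nonempty.cons_induction with
  | singleton a => exact ⟨a, Finset.mem_singleton_self a, fun k' hk' => by rw [Finset.mem_singleton.1 hk']⟩
  | cons a s ha hs ih =>
    obtain ⟨k, hk, hkd⟩ := ih
    rcases ValuationRing.dvd_total (c a) (c k) with h | h
    · exact ⟨a, Finset.mem_cons_self a s, fun k' hk' => by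
        rcases Finset.mem_cons.1 hk' with rfl | h'
        · rfl
        · exact h.trans (hkd k' h')⟩
    · exact ⟨k, Finset.mem_cons_of_mem hk, fun k' hk' => by
        rcases Finset.mem_cons.1 hk' with rfl | h'
        · exact h
        · exact hkd k' h'⟩

/-- A saturated submodule of a finite free module over a valuation ring is finitely generated. -/
theorem fg_of_saturated {E : Type v} [Finite E] (N : Submodule A (E → A))
    (hN : ∀ (a : A) (v : E → A), a ≠ 0 → a • v ∈ N → v ∈ N) : N.FG := by
  let Q := (E → A) ⧸ N
  haveI : Module.IsTorsionFree A Q := by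
    refine Module.IsTorsionFree.of_smul_eq_zero fun a q h => ?_
    by_cases ha : a = 0
    · exact Or.inl ha
    · obtain ⟨v, rfl⟩ := Submodule.Quotient.mk_surjective N q
      refine Or.inr ((Submodule.Quotient.mk_eq_zero N).2 (hN a v ha ?_))
      rw [← Submodule.Quotient.mk_smul] at h
      exact (Submodule.Quotient.mk_eq_zero N).1 h
  haveI : Module.Flat A Q := by
    rw [Module.Flat.flat_iff_torsion_eq_bot_of_isBezout, ← Submodule.isTorsionFree_iff_torsion_eq_bot]
    infer_instance
  haveI : Module.Free A Q := Module.free_of_flat_of_isLocalRing
  haveI : Module.FinitePresentation A Q := Module.finitePresentation_of_projective A Q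
  have h := Module.FinitePresentation.fg_ker N.mkQ (Submodule.mkQ_surjective N)
  rwa [Submodule.ker_mkQ] at h

variable {n : ℕ} {ι : Type v} [Finite ι]

/-- Dehomogenisation. -/
noncomputable def dehom : MvPolynomial (Option (Fin n)) A →ₐ[A] MvPolynomial (Fin n) A :=
  MvPolynomial.aeval fun o => o.elim 1 MvPolynomial.X

theorem dehom_C (a : A) : dehom (n := n) (C a) = C a := by
  simp [dehom]

theorem dehom_C_smul (a : A) (w : ι → MvPolynomial (Option (Fin n)) A) :
    (fun i => dehom (((C a : MvPolynomial (Option (Fin n)) A) • w) i)) =
      (C a : MvPolynomial (Fin n) A) • fun i => dehom (w i) := by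
  funext i
  simp only [Pi.smul_apply, smul_eq_mul, map_mul, dehom_C]

theorem coeff_C_smul_apply (a : A) (w : ι → MvPolynomial (Option (Fin n)) A) (i : ι)
    (m : Option (Fin n) →₀ ℕ) :
    coeff m (((C a : MvPolynomial (Option (Fin n)) A) • w) i) = a * coeff m (w i) := by
  simp only [Pi.smul_apply, smul_eq_mul, coeff_C_mul]

theorem exists_homogenize (p : MvPolynomial (Fin n) A) (D : ℕ) (hD : p.totalDegree ≤ D) :
    ∃ q : MvPolynomial (Option (Fin n)) A, q.IsHomogeneous D ∧ dehom q = p := by
  classical
  refine ⟨∑ a ∈ p.support,
    monomial (Finsupp.single none (D - a.degree) + Finsupp.mapDomain some a) (coeff a p), ?_, ?_⟩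
  · refine IsHomogeneous.sum _ _ _ fun a ha => isHomogeneous_monomial _ ?_
    have hdeg : a.degree ≤ D := by
      refine le_trans ?_ hD
      have h := le_totalDegree ha
      simpa [Finsupp.degree_apply, Finsupp.sum] using h
    rw [map_add, Finsupp.degree_single, Finsupp.degree_mapDomain]
    omega
  · rw [map_sum]
    conv_rhs => rw [p.as_sum]
    refine Finset.sum_congr rfl fun a _ => ?_
    rw [dehom, aeval_monomial, Finsupp.prod_add_index' (fun _ => pow_zero _) (fun _ _ _ => pow_add _ _ _),
      Finsupp.prod_single_index (h := fun (o : Option (Fin n)) (e : ℕ) => (o.elim (1 : MvPolynomial (Fin n) A) X) ^ e) (pow_zero _),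
      Finsupp.prod_mapDomain_index_inj (Option.some_injective _)]
    simp only [Option.elim_none, Option.elim_some, one_pow, one_mul, algebraMap_eq]
    exact (monomial_eq).symm

/-- A saturated submodule of a free module over a polynomial ring over a valuation ring is finitely
generated. -/
theorem fg_of_saturated_poly (K : Submodule (MvPolynomial (Fin n) A) (ι → MvPolynomial (Fin n) A))
    (hK : ∀ (a : A) (v : ι → MvPolynomial (Fin n) A), a ≠ 0 → (C a : MvPolynomial (Fin n) A) • v ∈ K → v ∈ K) : K.FG := by
  classical
  haveI := Fintype.ofFinite ι
  let S' := MvPolynomial (Option (Fin n)) A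
  let S := MvPolynomial (Fin n) A
  let k := IsLocalRing.ResidueField A
  let good : ℕ → Set (ι → S') := fun d =>
    {v | (∀ i, (v i).IsHomogeneous d) ∧ (fun i => dehom (v i)) ∈ K}
  let red : S' →+* MvPolynomial (Option (Fin n)) k := MvPolynomial.map (IsLocalRing.residue A)
  let redv : (ι → S') → (ι → MvPolynomial (Option (Fin n)) k) := fun v i => red (v i)
  let T : Set (ι → MvPolynomial (Option (Fin n)) k) := {w | ∃ d, ∃ v ∈ good d, redv v = w}
  obtain ⟨G, hGT, hG⟩ := Submodule.fg_span_iff_fg_span_finset_subset T |>.1
    (IsNoetherian.noetherian (Submodule.span (MvPolynomial (Option (Fin n)) k) T))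
  choose deg v hv hred using fun w : G => hGT w.2
  let L : Submodule S' (ι → S') := Submodule.span S' (Set.range v)
  have hscale : ∀ (d : ℕ) (a : A) (w : ι → S'), a ≠ 0 → (C a : S') • w ∈ good d → w ∈ good d := by
    intro d a w ha h
    have h2 := h.2
    rw [dehom_C_smul] at h2
    refine ⟨fun i m hm => h.1 i ?_, hK a _ ha h2⟩
    rw [coeff_C_smul_apply]
    exact mul_ne_zero ha hm
  have hmain : ∀ d, ∀ w ∈ good d, w ∈ L := by
    intro d
    let E := ι × {a : Option (Fin n) →₀ ℕ // a.degree = d}
    haveI : Finite {a : Option (Fin n) →₀ ℕ // a.degree = d} := by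
      refine Finite.of_injective (fun a o => (⟨a.1 o, Nat.lt_succ_of_le
        ((Finsupp.le_degree o a.1).trans_eq a.2)⟩ : Fin (d + 1))) fun a b h => ?_
      exact Subtype.ext (Finsupp.ext fun o => congrArg Fin.val (congrFun h o))
    let c : (ι → S') →ₗ[A] (E → A) :=
      { toFun := fun w e => coeff e.2.1 (w e.1)
        map_add' := fun w w' => funext fun e => by
          show coeff e.2.1 (w e.1 + w' e.1) = _
          rw [coeff_add]
          rfl
        map_smul' := fun a w => funext fun e => by
          show coeff e.2.1 (a • w e.1) = _
          rw [coeff_smul]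
          rfl }
    let W : Submodule A (ι → S') :=
      { carrier := good d
        add_mem' := fun {w w'} h h' => ⟨fun i => (h.1 i).add (h'.1 i), by
          have := K.add_mem h.2 h'.2
          convert this using 1
          exact funext fun i => map_add dehom _ _⟩
        zero_mem' := ⟨fun i => isHomogeneous_zero _ _ _, by
          convert K.zero_mem using 1
          exact funext fun i => map_zero dehom⟩
        smul_mem' := fun a w h => ⟨fun i => by
          show (a • w i).IsHomogeneous d
          rw [smul_eq_C_mul]
          exact (h.1 i).C_mul a, by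
          have := K.smul_mem (C a) h.2
          convert this using 1
          refine funext fun i => ?_
          show dehom (a • w i) = C a * dehom (w i)
          rw [map_smul, smul_eq_C_mul]⟩ }
    have hcinj : ∀ w ∈ W, ∀ w' ∈ W, c w = c w' → w = w' := by
      refine fun w hw w' hw' h => funext fun i => MvPolynomial.ext _ _ fun m => ?_
      by_cases hm : m.degree = d
      · exact congrFun h (i, ⟨m, hm⟩)
      · rw [(hw.1 i).coeff_eq_zero hm, (hw'.1 i).coeff_eq_zero hm]
    have hWfg : (W.map c).FG := by
      refine fg_of_saturated (W.map c) fun a x ha hx => ?_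
      obtain ⟨w, hw, hwx⟩ := hx
      -- divide `w` by `a`
      have hdvd : ∀ i m, a ∣ coeff m (w i) := fun i m => by
        by_cases hm : m.degree = d
        · exact ⟨x (i, ⟨m, hm⟩), congrFun hwx (i, ⟨m, hm⟩)⟩
        · rw [(hw.1 i).coeff_eq_zero hm]
          exact dvd_zero a
      choose q hq using fun i => (C_dvd_iff_dvd_coeff _ _).2 (hdvd i)
      have hwq : (C a : S') • q = w := funext fun i => (hq i).symm
      refine ⟨q, hscale d a q ha (hwq.symm ▸ hw), funext fun e => ?_⟩
      refine mul_left_cancel₀ ha ?_
      refine Eq.trans ?_ (congrFun hwx e)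
      show a * coeff e.2.1 (q e.1) = coeff e.2.1 (w e.1)
      rw [← hwq]
      exact (coeff_C_mul _ _ _).symm
    have hWfg' : W.FG := by
      obtain ⟨s, hs⟩ := hWfg
      choose g hg hgc using fun x : s => (hs ▸ Submodule.subset_span x.2 : (x : E → A) ∈ W.map c)
      refine ⟨Finset.univ.image g, le_antisymm (Submodule.span_le.2 fun y hy => ?_) fun y hy => ?_⟩
      · obtain ⟨x, -, rfl⟩ := Finset.mem_image.1 hy
        exact hg x
      · have hy' : c y ∈ (Submodule.span A (Set.range g)).map c := by
          rw [Submodule.map_span, ← Set.range_comp,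
            show (c ∘ g) = fun x : s => (x : E → A) from funext hgc]
          rw [show Set.range (fun x : s => (x : E → A)) = (s : Set (E → A)) from Subtype.range_coe, hs]
          exact ⟨y, hy, rfl⟩
        obtain ⟨z, hz, hzy⟩ := hy'
        have hzW : z ∈ W := Submodule.span_le.2 (Set.range_subset_iff.2 hg) hz
        rw [← hcinj z hzW y hy hzy, Finset.coe_image, Finset.coe_univ, Set.image_univ]
        exact hz
    have hle : W ≤ (L.restrictScalars A) ⊔ (IsLocalRing.maximalIdeal A) • W := by
      intro w hw
      have hwT : redv w ∈ Submodule.span (MvPolynomial (Option (Fin n)) k)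
          (G : Set (ι → MvPolynomial (Option (Fin n)) k)) := by
        rw [← hG]
        exact Submodule.subset_span ⟨d, w, hw, rfl⟩
      obtain ⟨h, -, hsum⟩ := Submodule.mem_span_finset.1 hwT
      choose H hH using fun g : G => MvPolynomial.map_surjective (IsLocalRing.residue A)
        IsLocalRing.residue_surjective (h g)
      let H' : G → S' := fun g => if deg g ≤ d then homogeneousComponent (d - deg g) (H g) else 0
      let z : ι → S' := ∑ g : G, H' g • v g
      have hzL : z ∈ L := Submodule.sum_mem _ fun g _ =>
        Submodule.smul_mem _ _ (Submodule.subset_span ⟨g, rfl⟩)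
      have hzg : ∀ g : G, H' g • v g ∈ good d := by
        intro g
        by_cases hg : deg g ≤ d
        · refine ⟨fun i => ?_, ?_⟩
          · show (H' g * v g i).IsHomogeneous d
            simp only [H', if_pos hg]
            have := (homogeneousComponent_isHomogeneous (d - deg g) (H g)).mul ((hv g).1 i)
            rwa [Nat.sub_add_cancel hg] at this
          · have := K.smul_mem (dehom (H' g)) (hv g).2
            convert this using 1
            exact funext fun i => map_mul dehom _ _
        · simp only [H', if_neg hg, zero_smul]
          exact W.zero_mem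
      have hzW : z ∈ W := W.sum_mem fun g _ => hzg g
      have hu : w - z ∈ W := W.sub_mem hw hzW
      have hred0 : ∀ i m, coeff m ((w - z) i) ∈ IsLocalRing.maximalIdeal A := by
        intro i m
        by_cases hm : m.degree = d
        swap
        · rw [(hu.1 i).coeff_eq_zero hm]
          exact Ideal.zero_mem _
        rw [← IsLocalRing.residue_eq_zero_iff, Pi.sub_apply, coeff_sub, map_sub, sub_eq_zero]
        have e1 : IsLocalRing.residue A (coeff m (w i)) =
            coeff m (∑ g : G, (h g * red (v g i))) := by
          rw [← coeff_map]
          refine congrArg (coeff m) ?_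
          have h' := congrFun hsum i
          rw [Finset.sum_apply] at h'
          refine h'.symm.trans ?_
          rw [← Finset.sum_coe_sort]
          exact Finset.sum_congr rfl fun g _ => by rw [Pi.smul_apply, smul_eq_mul, ← hred g]
        have e2 : IsLocalRing.residue A (coeff m (z i)) =
            coeff m (∑ g : G, red (H' g * v g i)) := by
          rw [← coeff_map, ← map_sum]
          refine congrArg (fun p => coeff m (red p)) ?_
          show (∑ g : G, H' g • v g) i = _
          rw [Finset.sum_apply]
          exact Finset.sum_congr rfl fun g _ => rfl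
        rw [e1, e2, coeff_sum, coeff_sum]
        refine Finset.sum_congr rfl fun g _ => ?_
        have hgh : (red (v g i)).IsHomogeneous (deg g) := ((hv g).1 i).map _
        rw [map_mul]
        by_cases hg : deg g ≤ d
        · simp only [H', if_pos hg]
          rw [← hH g]
          show coeff m (red (H g) * red (v g i)) =
            coeff m (red (homogeneousComponent (d - deg g) (H g)) * red (v g i))
          rw [coeff_mul, coeff_mul]
          refine Finset.sum_congr rfl fun p hp => ?_
          by_cases hp2 : p.2.degree = deg g
          · have hp1 : p.1.degree = d - deg g := by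
              have h1 : p.1 + p.2 = m := Finset.mem_antidiagonal.1 hp
              rw [← h1, map_add] at hm
              omega
            simp only [red]
            rw [coeff_map, coeff_map, coeff_map, coeff_homogeneousComponent, if_pos hp1]
          · rw [hgh.coeff_eq_zero hp2, mul_zero, mul_zero]
        · simp only [H', if_neg hg, map_zero, zero_mul]
          rw [coeff_mul]
          refine (Finset.sum_eq_zero fun p hp => ?_).trans (coeff_zero m).symm
          have hp2 : p.2.degree ≠ deg g := fun h2 => by
            have h1 : p.1 + p.2 = m := Finset.mem_antidiagonal.1 hp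
            rw [← h1, map_add] at hm
            omega
          rw [hgh.coeff_eq_zero hp2, mul_zero]
      refine Submodule.mem_sup.2 ⟨z, hzL, w - z, ?_, add_sub_cancel z w⟩
      -- divide by the best coefficient
      let supp : Finset (ι × (Option (Fin n) →₀ ℕ)) :=
        Finset.univ.biUnion fun i => ((w - z) i).support.image fun m => (i, m)
      by_cases hne : supp.Nonempty
      · obtain ⟨p, hp, hpd⟩ := exists_dvd_all supp hne (fun p => coeff p.2 ((w - z) p.1))
        have hdvd : ∀ i m, coeff p.2 ((w - z) p.1) ∣ coeff m ((w - z) i) := fun i m => by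
          by_cases hm : m ∈ ((w - z) i).support
          · exact hpd (i, m) (Finset.mem_biUnion.2 ⟨i, Finset.mem_univ i, Finset.mem_image.2 ⟨m, hm, rfl⟩⟩)
          · rw [notMem_support_iff.1 hm]
            exact dvd_zero _
        choose q hq using fun i => (C_dvd_iff_dvd_coeff _ _).2 (hdvd i)
        have hwq : (C (coeff p.2 ((w - z) p.1)) : S') • q = w - z := funext fun i => (hq i).symm
        have ha : coeff p.2 ((w - z) p.1) ≠ 0 := by
          obtain ⟨i, -, hi⟩ := Finset.mem_biUnion.1 hp
          obtain ⟨m, hm, rfl⟩ := Finset.mem_image.1 hi
          exact mem_support_iff.1 hm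
        have hqW : q ∈ W := hscale d _ q ha (hwq.symm ▸ hu)
        have := Submodule.smul_mem_smul (hred0 p.1 p.2) hqW
        convert this using 1
        refine hwq.symm.trans (funext fun i => ?_)
        show C (coeff p.2 ((w - z) p.1)) * q i = (coeff p.2 ((w - z) p.1)) • q i
        rw [smul_eq_C_mul]
      · have hzero : w - z = 0 := funext fun i => MvPolynomial.ext _ _ fun m => by
          rw [Pi.zero_apply, coeff_zero]
          by_contra hc
          exact hne ⟨(i, m), Finset.mem_biUnion.2 ⟨i, Finset.mem_univ i,
            Finset.mem_image.2 ⟨m, mem_support_iff.2 hc, rfl⟩⟩⟩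
        rw [hzero]
        exact Submodule.zero_mem _
    exact Submodule.le_of_le_smul_of_le_jacobson_bot hWfg'
      (IsLocalRing.maximalIdeal_le_jacobson _) hle
  refine ⟨Finset.univ.image fun g : G => fun i => dehom (v g i), ?_⟩
  refine le_antisymm (Submodule.span_le.2 fun y hy => ?_) fun y hy => ?_
  · obtain ⟨g, -, rfl⟩ := Finset.mem_image.1 hy
    exact (hv g).2
  let D := Finset.univ.sup fun i => (y i).totalDegree
  choose q hq hqy using fun i =>
    exists_homogenize (y i) D (Finset.le_sup (f := fun i => (y i).totalDegree) (Finset.mem_univ i))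
  have hqL : q ∈ L := hmain D q ⟨hq, by simpa [hqy] using hy⟩
  have key : ∀ z ∈ L, (fun i => dehom (z i)) ∈
      Submodule.span S (Set.range fun g : G => fun i => dehom (v g i)) := by
    intro z hz
    induction hz using Submodule.span_induction with
    | mem x hx =>
      obtain ⟨g, rfl⟩ := hx
      exact Submodule.subset_span ⟨g, rfl⟩
    | zero =>
      convert Submodule.zero_mem _ using 1
      exact funext fun i => map_zero dehom
    | add a b _ _ ha hb =>
      convert Submodule.add_mem _ ha hb using 1
      exact funext fun i => map_add dehom _ _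
    | smul r a _ ha =>
      convert Submodule.smul_mem _ (dehom r) ha using 1
      exact funext fun i => map_mul dehom _ _
  rw [Finset.coe_image, Finset.coe_univ, Set.image_univ]
  have h2 := key q hqL
  simpa [hqy] using h2

/-- Nagata: a finite module over a polynomial ring over a valuation ring which is torsion free over
the valuation ring is finitely presented. -/
theorem finitePresentation_of_torsionFree {M : Type v} [AddCommGroup M]
    [Module (MvPolynomial (Fin n) A) M] [Module.Finite (MvPolynomial (Fin n) A) M]
    (hM : ∀ (a : A) (m : M), a ≠ 0 → (C a : MvPolynomial (Fin n) A) • m = 0 → m = 0) :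
    Module.FinitePresentation (MvPolynomial (Fin n) A) M := by
  obtain ⟨r, π, hπ⟩ := Module.Finite.exists_fin' (MvPolynomial (Fin n) A) M
  refine Module.finitePresentation_of_surjective π hπ (fg_of_saturated_poly π.ker fun a v ha hv => ?_)
  rw [LinearMap.mem_ker] at hv ⊢
  rw [map_smul] at hv
  exact hM a _ ha hv

end GrothLib.NagataFP
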