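import Groth.Agent.Lib.NagataFP.Basic
import Groth.Agent.Lib.NagataFP.Global
import Mathlib.RingTheory.MvPolynomial.Localization
import Mathlib.RingTheory.Flat.TorsionFree

/-!
# Flat finite modules over polynomial rings over Prüfer domains are finitely presented
-/

set_option autoImplicit false
set_option linter.style.haveILetI false
set_option maxHeartbeats 800000

universe u

open MvPolynomial

namespace GrothLib.NagataFP

variable {R : Type u} [CommRing R] [IsDomain R] {n r : ℕ}

/-- Near a prime with valuation local ring a saturated submodule of a free module is finitely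
generated. -/
theorem exists_fg_of_valuation (p : Ideal R) [p.IsPrime] [ValuationRing (Localization.AtPrime p)]
    (K : Submodule (MvPolynomial (Fin n) R) (Fin r → MvPolynomial (Fin n) R))
    (hK : ∀ (a : R) (v : Fin r → MvPolynomial (Fin n) R), a ≠ 0 →
      (C a : MvPolynomial (Fin n) R) • v ∈ K → v ∈ K) :
    ∃ K' : Submodule (MvPolynomial (Fin n) R) (Fin r → MvPolynomial (Fin n) R), K'.FG ∧ K' ≤ K ∧
      ∀ k ∈ K, ∃ u ∉ p, algebraMap R (MvPolynomial (Fin n) R) u • k ∈ K' := by
  classical
  let Rp := Localization.AtPrime p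
  let P := MvPolynomial (Fin n) R
  let P' := MvPolynomial (Fin n) Rp
  let φ : P →+* P' := MvPolynomial.map (algebraMap R Rp)
  have hφC : ∀ a : R, φ (C a) = C (algebraMap R Rp a) := fun a => map_C _ a
  have hφinj : Function.Injective φ := MvPolynomial.map_injective _
    (IsLocalization.injective Rp p.primeCompl_le_nonZeroDivisors)
  let ι : (Fin r → P) → (Fin r → P') := fun v i => φ (v i)
  have hιinj : Function.Injective ι := fun v w h => funext fun i => hφinj (congrFun h i)
  have hιs : ∀ (a : P) (v : Fin r → P), ι (a • v) = φ a • ι v := fun a v => funext fun i => map_mul φ a (v i)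
  have hunit : ∀ u : R, u ∉ p → IsUnit (C (algebraMap R Rp u) : P') := fun u hu =>
    (IsLocalization.map_units Rp (⟨u, hu⟩ : p.primeCompl)).map C
  have hnum : ∀ f : P', ∃ u ∉ p, ∃ g : P, C (algebraMap R Rp u) * f = φ g := by
    letI : Algebra P P' := φ.toAlgebra
    haveI : IsLocalization (p.primeCompl.map (C : R →+* P)) P' := MvPolynomial.isLocalization p.primeCompl Rp
    intro f
    obtain ⟨⟨g, ⟨_, u, hu, rfl⟩⟩, h⟩ := IsLocalization.surj (p.primeCompl.map (C : R →+* P)) f
    refine ⟨u, hu, g, ?_⟩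
    have h' : f * φ (C u) = φ g := h
    rw [hφC] at h'
    rw [mul_comm]
    exact h'
  have hvec : ∀ v : Fin r → P', ∃ u ∉ p, ∃ w : Fin r → P, (C (algebraMap R Rp u) : P') • v = ι w := by
    intro v
    choose u hu g hg using fun i => hnum (v i)
    refine ⟨∏ i, u i, fun h => ?_, fun i => C (∏ j ∈ Finset.univ.erase i, u j) * g i, funext fun i => ?_⟩
    · obtain ⟨i, -, hi⟩ := (Ideal.IsPrime.prod_mem_iff).1 h
      exact hu i hi
    · show C (algebraMap R Rp (∏ j, u j)) * v i = φ (C _ * g i)
      rw [map_mul φ, hφC, ← hg i, ← Finset.mul_prod_erase _ _ (Finset.mem_univ i), map_mul, map_mul]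
      ring
  -- membership in the localised submodule
  have hA : ∀ (N : Submodule P (Fin r → P)) (x : Fin r → P'),
      x ∈ Submodule.span P' (ι '' N) → ∃ u ∉ p, ∃ k ∈ N, (C (algebraMap R Rp u) : P') • x = ι k := by
    intro N x hx
    induction hx using Submodule.span_induction with
    | mem x hx =>
      obtain ⟨k, hk, rfl⟩ := hx
      exact ⟨1, fun h => (inferInstance : p.IsPrime).ne_top ((Ideal.eq_top_iff_one p).2 h), k, hk, by simp⟩
    | zero =>
      exact ⟨1, fun h => (inferInstance : p.IsPrime).ne_top ((Ideal.eq_top_iff_one p).2 h), 0, N.zero_mem,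
        funext fun i => by simp [ι]⟩
    | add x y _ _ hx hy =>
      obtain ⟨u, hu, k, hk, hku⟩ := hx
      obtain ⟨v, hv, l, hl, hlv⟩ := hy
      refine ⟨u * v, (inferInstance : p.IsPrime).mul_notMem hu hv, (C v : P) • k + (C u : P) • l,
        N.add_mem (N.smul_mem _ hk) (N.smul_mem _ hl), ?_⟩
      rw [show ι ((C v : P) • k + (C u : P) • l) = ι ((C v : P) • k) + ι ((C u : P) • l) from funext fun i => map_add φ _ _,
        hιs, hιs, hφC, hφC, ← hku, ← hlv, map_mul, map_mul, smul_add, smul_smul, smul_smul, mul_comm (C _)]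
    | smul f x _ hx =>
      obtain ⟨u, hu, k, hk, hku⟩ := hx
      obtain ⟨v, hv, g, hg⟩ := hnum f
      refine ⟨v * u, (inferInstance : p.IsPrime).mul_notMem hv hu, g • k, N.smul_mem _ hk, ?_⟩
      rw [hιs, ← hku, ← hg, smul_smul, smul_smul, map_mul, map_mul]
      congr 1
      ring
  let Kp : Submodule P' (Fin r → P') := Submodule.span P' (ι '' K)
  obtain ⟨G, hG⟩ := fg_of_saturated_poly Kp (by
    intro a v ha hv
    obtain ⟨a', s, hs⟩ := IsLocalization.exists_mk'_eq p.primeCompl a
    have hs' : algebraMap R Rp s.1 * a = algebraMap R Rp a' := by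
      rw [← hs]
      exact IsLocalization.mk'_spec' Rp a' s
    have ha' : a' ≠ 0 := fun h => ha (by rw [← hs, h, IsLocalization.mk'_zero])
    have h1 : (C (algebraMap R Rp a') : P') • v ∈ Kp := by
      rw [← hs', map_mul, mul_smul]
      exact Kp.smul_mem _ hv
    obtain ⟨u, hu, k, hk, hku⟩ := hA K _ h1
    obtain ⟨u', hu', w, hw⟩ := hvec v
    have h2 : ι ((C (u * a') : P) • w) = ι ((C u' : P) • k) := by
      rw [hιs, hιs, hφC, hφC, ← hw, ← hku, smul_smul, smul_smul, smul_smul, map_mul, map_mul]
      congr 1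
      ring
    have hwK : w ∈ K := hK (u * a') w (mul_ne_zero (fun h => hu (h ▸ p.zero_mem)) ha')
      (hιinj h2 ▸ K.smul_mem _ hk)
    obtain ⟨c, hc⟩ := hunit u' hu'
    have h3 : v = (↑c⁻¹ : P') • ι w := by
      rw [← hw, smul_smul, ← hc, Units.inv_mul, one_smul]
    rw [h3]
    exact Kp.smul_mem _ (Submodule.subset_span ⟨w, hwK, rfl⟩))
  choose u hu k hk hku using fun g : G => hA K g (hG ▸ Submodule.subset_span g.2 : (g : Fin r → P') ∈ Kp)
  refine ⟨Submodule.span P (Set.range k), ⟨Finset.univ.image k, by rw [Finset.coe_image, Finset.coe_univ, Set.image_univ]⟩,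
    Submodule.span_le.2 (Set.range_subset_iff.2 hk), fun x hx => ?_⟩
  have hle : Kp ≤ Submodule.span P' (ι '' (Submodule.span P (Set.range k))) := by
    rw [← hG, Submodule.span_le]
    intro g hg
    obtain ⟨c, hc⟩ := hunit (u ⟨g, hg⟩) (hu ⟨g, hg⟩)
    have h3 : g = (↑c⁻¹ : P') • ι (k ⟨g, hg⟩) := by
      rw [← hku, smul_smul, ← hc, Units.inv_mul, one_smul]
    rw [h3]
    exact Submodule.smul_mem _ _ (Submodule.subset_span ⟨_, Submodule.subset_span ⟨_, rfl⟩, rfl⟩)
  obtain ⟨v, hv, l, hl, hlv⟩ := hA _ _ (hle (Submodule.subset_span ⟨x, hx, rfl⟩))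
  refine ⟨v, hv, ?_⟩
  have h4 : (C v : P) • x = l := hιinj (by rw [hιs, hφC]; exact hlv)
  rw [MvPolynomial.algebraMap_eq, h4]
  exact hl

/-- A torsion free finite module over a polynomial ring over a Prüfer domain is finitely presented. -/
theorem finitePresentation_of_prufer (hR : ∀ (p : Ideal R) [p.IsPrime], ValuationRing (Localization.AtPrime p))
    {M : Type u} [AddCommGroup M] [Module (MvPolynomial (Fin n) R) M] [Module.Finite (MvPolynomial (Fin n) R) M]
    (hM : ∀ (a : R) (m : M), a ≠ 0 → (C a : MvPolynomial (Fin n) R) • m = 0 → m = 0) :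
    Module.FinitePresentation (MvPolynomial (Fin n) R) M := by
  classical
  letI : Module R M := Module.compHom M (C : R →+* MvPolynomial (Fin n) R)
  haveI : IsScalarTower R (MvPolynomial (Fin n) R) M := IsScalarTower.of_algebraMap_smul fun _ _ => rfl
  haveI : Module.IsTorsionFree R M := by
    refine Module.IsTorsionFree.of_smul_eq_zero fun a m h => ?_
    by_cases ha : a = 0
    · exact Or.inl ha
    · exact Or.inr (hM a m ha h)
  haveI : Module.Flat R M :=
    (Module.Flat.flat_iff_torsion_eq_bot_of_valuationRing_localization_isMaximal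
      fun P _ => hR P).2 (Submodule.isTorsionFree_iff_torsion_eq_bot.1 inferInstance)
  obtain ⟨r, π, hπ⟩ := Module.Finite.exists_fin' (MvPolynomial (Fin n) R) M
  refine Module.finitePresentation_of_surjective π hπ
    (fg_ker_of_local π hπ {(⟨⊥, Ideal.isPrime_bot⟩ : PrimeSpectrum R)} (fun a b h => ?_) fun p hp => ?_)
  · exact IsLocalization.injective (Localization.AtPrime (⊥ : Ideal R))
      (Ideal.primeCompl_le_nonZeroDivisors ⊥) (congrFun h ⟨_, Finset.mem_singleton_self _⟩)
  · haveI := hR p
    refine exists_fg_of_valuation p (LinearMap.ker π) fun a v ha hv => ?_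
    rw [LinearMap.mem_ker] at hv ⊢
    rw [map_smul] at hv
    exact hM a _ ha hv

end GrothLib.NagataFP
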