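import Mathlib

/-! Local rings at generic points of special fibres of smooth algebras over valuation rings:
the two field-theoretic inputs (Seidenberg's criterion and the computation of values). -/

set_option autoImplicit false

universe u v w

open Polynomial

namespace GrothLib.SmoothVal

/-- Seidenberg: over an integrally closed local domain, a root of a polynomial with a unit
coefficient is integral, or its inverse is. -/
theorem isInteger_or_of_root {O : Type u} {K : Type v} [CommRing O] [IsDomain O] [IsLocalRing O]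
    [IsIntegrallyClosed O] [Field K] [Algebra O K] [IsFractionRing O K] (z : K) :
    ∀ (n : ℕ) (F : O[X]), F.natDegree ≤ n → aeval z F = 0 → (∃ i, IsUnit (F.coeff i)) →
      IsLocalization.IsInteger O z ∨ IsLocalization.IsInteger O z⁻¹ := by
  intro n
  induction n with
  | zero =>
    intro F hd h hu
    obtain ⟨i, hi⟩ := hu
    exfalso
    have hF := eq_C_of_natDegree_eq_zero (Nat.le_zero.1 hd)
    rcases i with _ | i
    · rw [hF, aeval_C] at h
      exact hi.ne_zero (IsFractionRing.injective O K (by rw [h, map_zero]))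
    · rw [hF, coeff_C] at hi
      simp at hi
  | succ n ih =>
    intro F hd h hu
    obtain ⟨i, hi⟩ := hu
    by_cases hlt : F.natDegree ≤ n
    · exact ih F hlt h ⟨i, hi⟩
    have hdeg : F.natDegree = n + 1 := by omega
    obtain ⟨b, hb⟩ : ∃ b, algebraMap O K b = algebraMap O K F.leadingCoeff * z := by
      obtain ⟨b, hb⟩ := IsIntegrallyClosed.isIntegral_iff.1 (isIntegral_leadingCoeff_smul F z h)
      exact ⟨b, by rw [hb, Algebra.smul_def]⟩
    by_cases ha : IsUnit F.leadingCoeff
    · left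
      refine ⟨↑ha.unit⁻¹ * b, ?_⟩
      rw [map_mul, hb, ← mul_assoc, ← map_mul, IsUnit.val_inv_mul, map_one, one_mul]
    by_cases hbu : IsUnit b
    · right
      refine ⟨↑hbu.unit⁻¹ * F.leadingCoeff, eq_inv_of_mul_eq_one_left ?_⟩
      rw [map_mul, mul_assoc, ← hb, ← map_mul, IsUnit.val_inv_mul, map_one]
    refine ih (F.eraseLead + C b * X ^ n) ?_ ?_ ?_
    · refine (natDegree_add_le _ _).trans (max_le ?_ (natDegree_C_mul_X_pow_le b n))
      exact (eraseLead_natDegree_le F).trans (by omega)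
    · have h' := h
      rw [← eraseLead_add_C_mul_X_pow F, hdeg, map_add, map_mul, aeval_C, map_pow, aeval_X,
        pow_succ', ← mul_assoc, ← hb] at h'
      rw [map_add, map_mul, aeval_C, map_pow, aeval_X]
      exact h'
    · have hin : i ≠ n + 1 := by
        rintro rfl
        exact ha (by rw [leadingCoeff, hdeg]; exact hi)
      refine ⟨i, ?_⟩
      rw [coeff_add, eraseLead_coeff_of_ne i (by rw [hdeg]; exact hin), coeff_C_mul_X_pow]
      split_ifs with hi'
      · by_contra hc
        have hbn : -b ∈ nonunits O := fun hh => hbu (by simpa using hh.neg)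
        have := IsLocalRing.nonunits_add (show F.coeff i + b ∈ nonunits O from hc) hbn
        rw [add_neg_cancel_right] at this
        exact this hi
      · simpa using hi

/-- Finitely many elements of a field avoid the roots of a suitable geometric sum. -/
theorem exists_geom_ne_zero {k : Type u} [Field k] (S : Finset k) :
    ∃ M L : ℕ, 1 ≤ M ∧ 2 ≤ L ∧ ∀ u ∈ S, ∑ i ∈ Finset.range L, (u ^ M) ^ i ≠ 0 := by
  classical
  let φ : k → ℕ := fun u => if orderOf u = 0 then 1 else orderOf u
  have hφ : ∀ u, 1 ≤ φ u := fun u => by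
    simp only [φ]
    split_ifs with h
    · exact le_rfl
    · omega
  obtain ⟨L, hL, hLk⟩ : ∃ L : ℕ, 2 ≤ L ∧ (L : k) ≠ 0 := by
    by_cases h2 : (2 : k) = 0
    · refine ⟨3, by norm_num, ?_⟩
      have : ((3 : ℕ) : k) = 2 + 1 := by norm_num
      rw [this, h2, zero_add]
      exact one_ne_zero
    · exact ⟨2, le_rfl, by exact_mod_cast h2⟩
  have hM : 1 ≤ ∏ u ∈ S, φ u := Finset.one_le_prod' fun u _ => hφ u
  refine ⟨∏ u ∈ S, φ u, L, hM, hL, fun u hu h0 => hLk ?_⟩
  have h1 := geom_sum_mul (u ^ ∏ u ∈ S, φ u) L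
  rw [h0, zero_mul] at h1
  have hpow : u ^ ((∏ u ∈ S, φ u) * L) = 1 := by
    rw [pow_mul]
    exact sub_eq_zero.1 h1.symm
  have hfin : orderOf u ≠ 0 := fun h =>
    orderOf_eq_zero_iff'.1 h _ (Nat.mul_pos hM (by omega)) hpow
  have hdvd : orderOf u ∣ ∏ u ∈ S, φ u := by
    have := Finset.dvd_prod_of_mem φ hu
    rwa [show φ u = orderOf u from if_neg hfin] at this
  rw [orderOf_dvd_iff_pow_eq_one.1 hdvd] at h0
  simpa using h0

/-- The value of a geometric sum avoiding the residue of `x`. -/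
theorem val_geom {Ω : Type u} [Field Ω] (U : ValuationSubring Ω) {M L : ℕ} (hM : 1 ≤ M)
    (hL : 2 ≤ L) (x : Ω)
    (hres : ∀ hx : x ∈ U, U.valuation x = 1 →
      ∑ i ∈ Finset.range L, (IsLocalRing.residue U ⟨x, hx⟩ ^ M) ^ i ≠ 0) :
    (U.valuation x = 1 → U.valuation (∑ i ∈ Finset.range L, (x ^ M) ^ i) = 1) ∧
      1 ≤ U.valuation (∑ i ∈ Finset.range L, (x ^ M) ^ i) ∧
      U.valuation x ≤ U.valuation (∑ i ∈ Finset.range L, (x ^ M) ^ i) := by
  classical
  rcases lt_trichotomy (U.valuation x) 1 with hlt | heq | hgt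
  · have h1 : U.valuation (x ^ M) < 1 := by
      rw [map_pow]
      exact pow_lt_one₀ zero_le hlt (by omega)
    have : U.valuation (∑ i ∈ Finset.range L, (x ^ M) ^ i) = 1 := by
      rw [U.valuation.map_sum_eq_of_lt (j := 0) (Finset.mem_range.2 (by omega))]
      · simp
      · intro i hi
        simp only [Finset.mem_sdiff, Finset.mem_range, Finset.mem_singleton] at hi
        rw [pow_zero, map_one, map_pow]
        exact pow_lt_one₀ zero_le h1 hi.2
    exact ⟨fun _ => this, this.ge, this ▸ hlt.le⟩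
  · have hx : x ∈ U := (U.valuation_le_one_iff x).1 heq.le
    have hu : IsUnit (∑ i ∈ Finset.range L, ((⟨x, hx⟩ : U) ^ M) ^ i) := by
      rw [← IsLocalRing.residue_ne_zero_iff_isUnit]
      rw [map_sum]
      simp only [map_pow]
      exact hres hx heq
    have := (U.valuation_eq_one_iff _).1 hu
    have hc : ((∑ i ∈ Finset.range L, ((⟨x, hx⟩ : U) ^ M) ^ i : U) : Ω)
        = ∑ i ∈ Finset.range L, (x ^ M) ^ i := by push_cast; rfl
    rw [hc] at this
    exact ⟨fun _ => this, this.ge, by rw [this, heq]⟩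
  · have h1 : 1 < U.valuation (x ^ M) := by
      rw [map_pow]
      exact one_lt_pow₀ hgt (by omega)
    have hval : U.valuation (∑ i ∈ Finset.range L, (x ^ M) ^ i)
        = U.valuation (x ^ M) ^ (L - 1) := by
      rw [U.valuation.map_sum_eq_of_lt (j := L - 1) (Finset.mem_range.2 (by omega)), map_pow]
      intro i hi
      simp only [Finset.mem_sdiff, Finset.mem_range, Finset.mem_singleton] at hi
      rw [map_pow _ (x ^ M) i, map_pow _ (x ^ M) (L - 1)]
      exact pow_lt_pow_right₀ h1 (by omega)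
    rw [hval]
    refine ⟨fun h => absurd h hgt.ne', one_le_pow₀ h1.le, ?_⟩
    rw [map_pow, ← pow_mul]
    exact le_self_pow₀ hgt.le (Nat.mul_ne_zero (by omega) (by omega))

variable {T : Type u} {K : Type v} {Ω : Type w} [CommRing T] [Field K] [Field Ω]
  [Algebra T K] [Algebra K Ω] [Algebra T Ω] [IsScalarTower T K Ω]

omit [Field K] [Algebra T K] [Algebra K Ω] [IsScalarTower T K Ω] in
theorem aeval_coe (U : ValuationSubring Ω) (hT : ∀ t : T, algebraMap T Ω t ∈ U) (x : U)
    (q : T[X]) :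
    aeval (x : Ω) q = ((q.map ((algebraMap T Ω).codRestrict U.toSubring hT)).eval x : U) := by
  rw [eval_map, aeval_def]
  change _ = U.subtype (eval₂ _ x q)
  rw [hom_eval₂]
  rfl

omit [Field K] [Algebra T K] [Algebra K Ω] [IsScalarTower T K Ω] in
theorem mem_of_monic (U : ValuationSubring Ω) (hT : ∀ t : T, algebraMap T Ω t ∈ U) {F : T[X]}
    (hF : F.Monic) {r : Ω} (hr : aeval r F = 0) : r ∈ U := by
  have hint : IsIntegral U r := by
    refine ⟨F.map ((algebraMap T Ω).codRestrict U.toSubring hT), hF.map _, ?_⟩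
    rw [eval₂_map]
    exact hr
  obtain ⟨y, hy⟩ := IsIntegrallyClosed.isIntegral_iff.1 hint
  rw [← hy]
  exact y.2

/-- The value of an element of a separable extension generated by a root of a monic polynomial
with unit derivative lies in the value group of the base field, given that a power of it does
up to values of integral elements of value one. -/
theorem exists_val_eq [IsAlgClosed Ω] (U : ValuationSubring Ω)
    (hT : ∀ t : T, algebraMap T Ω t ∈ U) (F : T[X]) (hF : F.Monic) (θ : Ω)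
    (hFθ : aeval θ F = 0) (hF'θ : U.valuation (aeval θ (derivative F)) = 1)
    (h : T[X]) (hh : aeval θ h ≠ 0) (k : ℕ) (hk : 1 ≤ k) (ti tj : T)
    (hti : algebraMap T Ω ti ≠ 0) (htj : algebraMap T Ω tj ≠ 0) (h1 h2 : T[X])
    (hh1 : U.valuation (aeval θ h1) = 1) (hh2 : U.valuation (aeval θ h2) = 1)
    (hrel : aeval θ h ^ k * algebraMap T Ω tj * aeval θ h2 = algebraMap T Ω ti * aeval θ h1) :
    ∃ κ : K, U.valuation (algebraMap K Ω κ) = U.valuation (aeval θ h) := by
  classical
  let v := U.valuation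
  -- the field generated by `θ`
  have hFK : aeval θ (F.map (algebraMap T K)) = 0 := by rw [aeval_map_algebraMap]; exact hFθ
  have hint : IsIntegral K θ := ⟨_, hF.map _, hFK⟩
  have hsep : IsSeparable K θ := by
    obtain ⟨s, hs⟩ := minpoly.dvd K θ hFK
    have hd : aeval θ (derivative (minpoly K θ)) ≠ 0 := by
      intro h0
      have : aeval θ (derivative F) = 0 := by
        rw [← aeval_map_algebraMap K θ (derivative F), ← derivative_map, hs, derivative_mul,
          map_add, map_mul, map_mul, h0, minpoly.aeval]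
        ring
      rw [this, map_zero] at hF'θ
      exact zero_ne_one hF'θ
    exact (separable_iff_derivative_ne_zero (minpoly.irreducible hint)).2
      fun h0 => hd (by rw [h0, map_zero])
  let E : IntermediateField K Ω := IntermediateField.adjoin K {θ}
  haveI : FiniteDimensional K E := IntermediateField.adjoin.finiteDimensional hint
  haveI : Algebra.IsSeparable K E :=
    (IntermediateField.isSeparable_adjoin_simple_iff_isSeparable K Ω).2 hsep
  let θE : E := IntermediateField.AdjoinSimple.gen K θ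
  have hinj : ∀ σ τ : E →ₐ[K] Ω, σ θE = τ θE → σ = τ := fun σ τ hστ =>
    (IntermediateField.adjoin.powerBasis hint).algHom_ext
      (by rw [IntermediateField.adjoin.powerBasis_gen]; exact hστ)
  let σ₀ : E →ₐ[K] Ω := E.val
  let qE : T[X] → E := fun q => aeval θE (q.map (algebraMap T K))
  have hqE : ∀ (σ : E →ₐ[K] Ω) (q : T[X]), σ (qE q) = aeval (σ θE) q := fun σ q => by
    rw [← aeval_map_algebraMap K (σ θE) q, aeval_algHom_apply]
  have hσ₀ : σ₀ θE = θ := rfl
  let tE : T → E := fun t => algebraMap K E (algebraMap T K t)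
  have htE : ∀ (σ : E →ₐ[K] Ω) (t : T), σ (tE t) = algebraMap T Ω t := fun σ t => by
    rw [IsScalarTower.algebraMap_apply T K Ω t]
    exact σ.commutes _
  have hσinj : Function.Injective σ₀ := σ₀.toRingHom.injective
  have hrelE : qE h ^ k * tE tj * qE h2 = tE ti * qE h1 := by
    apply hσinj
    simp only [map_mul, map_pow, hqE, htE, hσ₀]
    exact hrel
  let r : (E →ₐ[K] Ω) → Ω := fun σ => σ θE
  have hrF : ∀ σ, aeval (r σ) F = 0 := fun σ => by
    rw [← hqE]
    have : qE F = 0 := hσinj (by rw [hqE, map_zero, hσ₀]; exact hFθ)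
    rw [this, map_zero]
  let rU : (E →ₐ[K] Ω) → U := fun σ => ⟨r σ, mem_of_monic U hT hF (hrF σ)⟩
  have hle : ∀ σ (q : T[X]), v (aeval (r σ) q) ≤ 1 := fun σ q => by
    rw [show r σ = (rU σ : Ω) from rfl, aeval_coe U hT]
    exact U.valuation_le_one _
  -- the polynomial `Q` selecting the good embeddings
  let qf : (E →ₐ[K] Ω) → T[X] := fun σ =>
    if hb : ∃ q : T[X], v (aeval θ q) = 1 ∧ v (aeval (r σ) q) < 1 then hb.choose else 1
  have hqf : ∀ σ, v (aeval θ (qf σ)) = 1 := fun σ => by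
    simp only [qf]
    split_ifs with hb
    · exact hb.choose_spec.1
    · simp
  let Q : T[X] := ∏ σ, qf σ
  have hQθ : v (aeval θ Q) = 1 := by
    simp only [Q, map_prod]
    exact Finset.prod_eq_one fun σ _ => hqf σ
  let C₀ : Finset (E →ₐ[K] Ω) := Finset.univ.filter fun σ => v (aeval (r σ) Q) = 1
  have hgood : ∀ σ ∈ C₀, ∀ q : T[X], v (aeval θ q) = 1 → v (aeval (r σ) q) = 1 := by
    intro σ hσ q hq
    by_contra hne
    have hb : ∃ q : T[X], v (aeval θ q) = 1 ∧ v (aeval (r σ) q) < 1 :=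
      ⟨q, hq, lt_of_le_of_ne (hle σ q) hne⟩
    have hlt : v (aeval (r σ) (qf σ)) < 1 := by
      simp only [qf, dif_pos hb]
      exact hb.choose_spec.2
    have hQ1 : v (aeval (r σ) Q) = 1 := (Finset.mem_filter.1 hσ).2
    simp only [Q] at hQ1
    rw [← Finset.mul_prod_erase Finset.univ qf (Finset.mem_univ σ), map_mul, map_mul] at hQ1
    exact (lt_of_le_of_lt (mul_le_of_le_one_right zero_le (hle σ _)) hlt).ne hQ1
  have hσ₀C : σ₀ ∈ C₀ := Finset.mem_filter.2 ⟨Finset.mem_univ _, by simpa [r, hσ₀] using hQθ⟩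
  have hoff : ∀ σ, σ ∉ C₀ → v (aeval (r σ) Q) < 1 := fun σ hσ =>
    lt_of_le_of_ne (hle σ Q) fun h' => hσ (Finset.mem_filter.2 ⟨Finset.mem_univ _, h'⟩)
  -- values
  set γ := v (aeval θ h) with hγ
  have hγ0 : γ ≠ 0 := (U.valuation.ne_zero_iff).2 hh
  have hγk : γ ^ k * v (algebraMap T Ω tj) = v (algebraMap T Ω ti) := by
    have := congrArg v hrel
    rwa [map_mul, map_mul, map_mul, map_pow, hh1, hh2, mul_one, mul_one] at this
  have hC : ∀ σ ∈ C₀, v (aeval (r σ) h) = γ := by
    intro σ hσ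
    have := congrArg (fun e => v (σ e)) hrelE
    simp only [map_mul, map_pow, hqE, htE] at this
    rw [hgood σ hσ h2 hh2, hgood σ hσ h1 hh1, mul_one, mul_one, ← hγk] at this
    exact (pow_left_inj₀ zero_le zero_le (by omega)).1
      (mul_right_cancel₀ ((U.valuation.ne_zero_iff).2 htj) this)
  let zE : E := qE h ^ k * tE tj / tE ti
  have hz : ∀ σ, σ zE = aeval (r σ) h ^ k * algebraMap T Ω tj / algebraMap T Ω ti := fun σ => by
    simp only [zE, map_div₀, map_mul, map_pow, hqE, htE, r]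
  have hvz : ∀ σ, v (σ zE) = (v (aeval (r σ) h) / γ) ^ k := fun σ => by
    rw [hz, map_div₀, map_mul, map_pow, ← hγk, div_pow,
      mul_div_mul_right _ _ ((U.valuation.ne_zero_iff).2 htj)]
  -- the geometric sum
  let S : Finset (IsLocalRing.ResidueField U) := Finset.univ.image fun σ : E →ₐ[K] Ω =>
    if hm : σ zE ∈ U then IsLocalRing.residue U ⟨σ zE, hm⟩ else 0
  obtain ⟨M, L, hM, hL, hS⟩ := exists_geom_ne_zero S
  have hΦ : ∀ σ : E →ₐ[K] Ω,
      (v (σ zE) = 1 → v (∑ i ∈ Finset.range L, (σ zE ^ M) ^ i) = 1) ∧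
      1 ≤ v (∑ i ∈ Finset.range L, (σ zE ^ M) ^ i) ∧
      v (σ zE) ≤ v (∑ i ∈ Finset.range L, (σ zE ^ M) ^ i) := fun σ =>
    val_geom U hM hL _ fun hm _ => hS _ (Finset.mem_image.2
      ⟨σ, Finset.mem_univ _, by rw [dif_pos hm]⟩)
  let wE : E := qE h * qE Q / ∑ i ∈ Finset.range L, (zE ^ M) ^ i
  have hw : ∀ σ : E →ₐ[K] Ω, v (σ wE) = v (aeval (r σ) h) * v (aeval (r σ) Q)
      / v (∑ i ∈ Finset.range L, (σ zE ^ M) ^ i) := fun σ => by
    simp only [wE, map_div₀, map_mul, hqE, map_sum, map_pow, r]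
  have hwC : ∀ σ ∈ C₀, v (σ wE) = γ := fun σ hσ => by
    rw [hw, hC σ hσ, (Finset.mem_filter.1 hσ).2, (hΦ σ).1 (by
      rw [hvz, hC σ hσ, div_self hγ0, one_pow]), mul_one, div_one]
  have hwoff : ∀ σ, σ ∉ C₀ → v (σ wE) < γ := fun σ hσ => by
    have hpos : (0 : U.ValueGroup) < v (∑ i ∈ Finset.range L, (σ zE ^ M) ^ i) :=
      lt_of_lt_of_le zero_lt_one (hΦ σ).2.1
    have hγpos : (0 : U.ValueGroup) < γ := zero_lt_iff.2 hγ0
    rw [hw, div_lt_iff₀ hpos]
    rcases eq_or_ne (v (aeval (r σ) h)) 0 with h0 | h0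
    · rw [h0, zero_mul]
      exact mul_pos hγpos hpos
    rcases le_or_gt (v (aeval (r σ) h)) γ with hsm | hbig
    · calc v (aeval (r σ) h) * v (aeval (r σ) Q) < v (aeval (r σ) h) * 1 :=
            mul_lt_mul_of_pos_left (hoff σ hσ) (zero_lt_iff.2 h0)
        _ ≤ γ * v (∑ i ∈ Finset.range L, (σ zE ^ M) ^ i) :=
            mul_le_mul' hsm (hΦ σ).2.1
    · have ht : 1 ≤ v (aeval (r σ) h) / γ := (one_le_div₀ hγpos).2 hbig.le
      calc v (aeval (r σ) h) * v (aeval (r σ) Q) < v (aeval (r σ) h) * 1 :=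
            mul_lt_mul_of_pos_left (hoff σ hσ) (zero_lt_iff.2 h0)
        _ = γ * (v (aeval (r σ) h) / γ) := by rw [mul_one, mul_div_cancel₀ _ hγ0]
        _ ≤ γ * v (∑ i ∈ Finset.range L, (σ zE ^ M) ^ i) := by
            refine mul_le_mul' le_rfl ?_
            exact ((le_self_pow₀ ht (by omega)).trans (hvz σ).ge).trans (hΦ σ).2.2
  -- residues of the good roots are distinct
  have hdist : ∀ σ ∈ C₀, ∀ τ : E →ₐ[K] Ω, τ ≠ σ → v (r σ - r τ) = 1 := by
    intro σ hσ τ hne
    let FU := F.map ((algebraMap T Ω).codRestrict U.toSubring hT)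
    have hroot : ∀ ρ, FU.eval (rU ρ) = 0 := fun ρ => Subtype.ext <| by
      rw [← aeval_coe U hT]
      exact hrF ρ
    have hder : IsUnit ((derivative FU).eval (rU σ)) := by
      rw [U.valuation_eq_one_iff, derivative_map, ← aeval_coe U hT]
      exact hgood σ hσ _ hF'θ
    obtain ⟨c, hc⟩ := binomExpansion FU (rU σ) (rU τ - rU σ)
    rw [add_sub_cancel, hroot, hroot, zero_add] at hc
    have hy : rU τ - rU σ ≠ 0 := fun h0 =>
      hne (hinj τ σ (congrArg Subtype.val (sub_eq_zero.1 h0)))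
    have hkey : (derivative FU).eval (rU σ) = -c * (rU τ - rU σ) := by
      apply mul_right_cancel₀ hy
      linear_combination -hc
    rw [hkey] at hder
    have := (U.valuation_eq_one_iff _).1 (isUnit_of_mul_isUnit_right hder)
    rw [Valuation.map_sub_swap]
    exact this
  -- some power of `θ` gives a trace of the right value
  have hsumle : ∀ i, v (∑ σ ∈ C₀, r σ ^ i * σ wE) ≤ γ := fun i =>
    U.valuation.map_sum_le fun σ hσ => by
      rw [map_mul, map_pow, hwC σ hσ]
      exact mul_le_of_le_one_left zero_le (pow_le_one₀ zero_le (U.valuation_le_one (rU σ)))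
  obtain ⟨i, hi⟩ : ∃ i, v (∑ σ ∈ C₀, r σ ^ i * σ wE) = γ := by
    by_contra hno
    push Not at hno
    let ℓ : U[X] := ∏ τ ∈ C₀.erase σ₀, (X - C (rU τ))
    have hsum : ∑ σ ∈ C₀, ((ℓ.eval (rU σ) : U) : Ω) * σ wE = ((ℓ.eval (rU σ₀) : U) : Ω) * σ₀ wE :=
      Finset.sum_eq_single σ₀ (fun σ hσ hne => by
        have : ℓ.eval (rU σ) = 0 := by
          simp only [ℓ, eval_prod]
          exact Finset.prod_eq_zero (Finset.mem_erase.2 ⟨hne, hσ⟩) (by simp)
        rw [this]
        simp) (fun hne => absurd hσ₀C hne)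
    have hv0 : v (((ℓ.eval (rU σ₀) : U) : Ω) * σ₀ wE) = γ := by
      rw [map_mul, hwC σ₀ hσ₀C]
      have : IsUnit (ℓ.eval (rU σ₀)) := by
        simp only [ℓ, eval_prod, eval_sub, eval_X, eval_C]
        refine IsUnit.prod_iff.2 fun τ hτ => ?_
        rw [U.valuation_eq_one_iff]
        exact hdist σ₀ hσ₀C τ (Finset.mem_erase.1 hτ).1
      rw [(U.valuation_eq_one_iff _).1 this, one_mul]
    have hexp : ∑ σ ∈ C₀, ((ℓ.eval (rU σ) : U) : Ω) * σ wE
        = ∑ j ∈ Finset.range (ℓ.natDegree + 1),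
            ((ℓ.coeff j : U) : Ω) * ∑ σ ∈ C₀, r σ ^ j * σ wE := by
      simp only [eval_eq_sum_range, Finset.mul_sum]
      rw [Finset.sum_comm]
      refine Finset.sum_congr rfl fun σ _ => ?_
      push_cast
      rw [Finset.sum_mul]
      exact Finset.sum_congr rfl fun j _ => by ring
    have hlt : v (∑ σ ∈ C₀, ((ℓ.eval (rU σ) : U) : Ω) * σ wE) < γ := by
      rw [hexp]
      refine U.valuation.map_sum_lt hγ0 fun j _ => ?_
      rw [map_mul]
      exact lt_of_le_of_lt (mul_le_of_le_one_left zero_le (U.valuation_le_one _))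
        (lt_of_le_of_ne (hsumle j) (hno j))
    rw [hsum, hv0] at hlt
    exact lt_irrefl _ hlt
  refine ⟨Algebra.trace K E (θE ^ i * wE), ?_⟩
  rw [trace_eq_sum_embeddings Ω, ← Finset.sum_add_sum_compl C₀]
  simp only [map_mul, map_pow]
  rw [U.valuation.map_add_eq_of_lt_left, hi]
  change v _ < v _
  rw [hi]
  refine U.valuation.map_sum_lt hγ0 fun σ hσ => ?_
  rw [map_mul, map_pow]
  exact lt_of_le_of_lt (mul_le_of_le_one_left zero_le
    (pow_le_one₀ zero_le (U.valuation_le_one (rU σ)))) (hwoff σ (Finset.mem_compl.1 hσ))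

end GrothLib.SmoothVal
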